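import Cfsg.Agent.Mrg.Omega.Assembly
import Cfsg.Agent.ZN.ChoiceBase


/-!
# OMEGA NO-3L, [R-z]: the small flag and `Z = Ω₁(Z(S))`

`Z' ≤ Z`, `Z' ≠ 1`; `V` is normalised by `N_G(S)` and by all `P ∈ P*(S)`.

* `le_centralizer_zc` : `P ∈ P(S)` normalising `Z` centralises `Z`;
* `nz_of` : `C_G(Z') ≰ N_G(V)` implies `C_G(Z) ≰ N_G(V)`.

So the flags `F` of the `Z'`-frame may always be taken with exits in `C_G(Z F)`.
-/

set_option autoImplicit false

namespace Cfsg.Agent.Omega.NOThreeL.RZ.Nz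

open Subgroup Cfsg Cfsg.Agent.Omega.MinPar
open Cfsg.Agent.ZN (zc zl o2)
open Cfsg.Agent.ZN.ChoiceBase (mem_normalizer_iff_cj cj_inf cj_eq_of_mem_normalizer cj_centralizer)
open Cfsg.Agent.MinSimple.VModule (le_centralizer_zc zc_le)

universe u

variable {G : Type u} [Group G] [Finite G] {S : Sylow 2 G}

/-- `P ∈ P(S)` normalising `Ω₁(Z(S))` centralises it. -/
theorem le_centralizer_of {P : Subgroup G} (hP : IsPar (S : Subgroup G) P)
    (h : P ≤ normalizer (zc (S : Subgroup G) : Set G)) :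
    P ≤ centralizer (zc (S : Subgroup G) : Set G) := by
  have hSC : (S : Subgroup G) ≤ centralizer (zc (S : Subgroup G) : Set G) := le_centralizer_zc _
  have hn : P ≤ normalizer ((P ⊓ centralizer (zc (S : Subgroup G) : Set G) : Subgroup G) : Set G) := by
    intro p hp
    rw [mem_normalizer_iff_cj, cj_inf, cj_eq_of_mem_normalizer (Subgroup.le_normalizer hp),
      cj_centralizer, cj_eq_of_mem_normalizer (h hp)]
  rcases hP.sup_eq_or_inf_le (S := S) inf_le_left hn with h1 | h1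
  · rw [← h1]
    exact sup_le inf_le_right hSC
  · exfalso
    have h2 : (S : Subgroup G) ≤ o2 P := (le_inf le_rfl (le_inf hP.le hSC)).trans h1
    have h3 : o2 P = (S : Subgroup G) := le_antisymm ((⟨hP.le, hP.o2_ne⟩ : IsLoc (S : Subgroup G) P).o2_le S) h2
    exact hP.not_le (h3 ▸ MinSimple.VModule.le_normalizer_o2 P)

/-- **`C_G(Z') ≰ N_G(V)` implies `C_G(Z) ≰ N_G(V)`.** -/
theorem nz_of {Z' V : Subgroup G} (hZ' : Z' ≤ zc (S : Subgroup G)) (hne : Z' ≠ ⊥)
    (hN : centralizer (Z' : Set G) ⊓ normalizer ((S : Subgroup G) : Set G) ≤ normalizer (V : Set G))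
    (hP : ∀ P : Subgroup G, IsParS (S : Subgroup G) P → P ≤ centralizer (Z' : Set G) →
      P ≤ normalizer (V : Set G))
    (h : ¬ centralizer (Z' : Set G) ≤ normalizer (V : Set G)) :
    ¬ centralizer (zc (S : Subgroup G) : Set G) ≤ normalizer (V : Set G) := by
  intro hcon
  apply h
  have hSC : (S : Subgroup G) ≤ centralizer (Z' : Set G) :=
    (le_centralizer_zc _).trans (centralizer_le hZ')
  have h2 : IsPGroup 2 Z' := S.isPGroup'.to_le (hZ'.trans (zc_le _))
  have hL : IsLoc (S : Subgroup G) (centralizer (Z' : Set G)) :=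
    isLoc_of_le_normalizer S hSC h2 hne (centralizer_le_normalizer _)
  refine hL.le_of_forall S hN fun P hPP hPC => ?_
  by_cases hz : P ≤ normalizer (zc (S : Subgroup G) : Set G)
  · exact (le_centralizer_of hPP hz).trans hcon
  · exact hP P ⟨hPP, hz⟩ hPC

end Cfsg.Agent.Omega.NOThreeL.RZ.Nz
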